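import Cfsg.Agent.Lib.SL2Trace.Products
import Mathlib.GroupTheory.SpecificGroups.Cyclic

/-! Existence of elements of prescribed order in `PSL₂`. -/

namespace CfsgLib.SL2Trace

open Matrix

variable {F : Type*} [Field F]

theorem mul_self_eq_one_of_mem_center {M : SpecialLinearGroup (Fin 2) F}
    (h : M ∈ Subgroup.center (SpecialLinearGroup (Fin 2) F)) : M * M = 1 := by
  obtain ⟨r, hr, hrM⟩ := SpecialLinearGroup.mem_center_iff.1 h
  apply Subtype.ext
  rw [SpecialLinearGroup.coe_mul, ← hrM, ← map_mul, SpecialLinearGroup.coe_one, ← sq]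
  rw [Fintype.card_fin] at hr
  rw [hr, map_one]

theorem gcd_two_card [Fintype F] (n : ℕ)
    (h : n % 2 = (Fintype.card F - 1) % 2) : Nat.gcd 2 n = Nat.gcd 2 (Fintype.card F - 1) := by
  rw [Nat.gcd_rec, h, ← Nat.gcd_rec]

theorem orderOf_toPSL [Fintype F] (M : SpecialLinearGroup (Fin 2) F)
    (h : orderOf M % 2 = (Fintype.card F - 1) % 2) :
    orderOf (toPSL M) = orderOf M / Nat.gcd 2 (Fintype.card F - 1) := by
  rw [← gcd_two_card _ h]
  apply Nat.dvd_antisymm
  · apply orderOf_dvd_of_pow_eq_one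
    rw [toPSL, ← QuotientGroup.mk_pow, QuotientGroup.eq_one_iff]
    rcases Nat.mod_two_eq_zero_or_one (orderOf M) with he | ho
    · have h2 : (2 : F) ≠ 0 := by
        refine Ring.two_ne_zero (fun hc => ?_)
        have := FiniteField.even_card_of_char_two hc
        have : 1 ≤ Fintype.card F := Fintype.card_pos
        omega
      rw [Nat.gcd_eq_left (Nat.dvd_of_mod_eq_zero he)]
      refine mem_center_of_sq_eq_one h2 ?_
      rw [← pow_add, show orderOf M / 2 + orderOf M / 2 = orderOf M from by omega,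
        pow_orderOf_eq_one]
    · rw [show Nat.gcd 2 (orderOf M) = 1 from by rw [Nat.gcd_rec, ho, Nat.gcd_one_left],
        Nat.div_one, pow_orderOf_eq_one]
      exact one_mem _
  · have h1 := pow_orderOf_eq_one (toPSL M)
    rw [toPSL, ← QuotientGroup.mk_pow, QuotientGroup.eq_one_iff] at h1
    have h2 := mul_self_eq_one_of_mem_center h1
    rw [← pow_add, ← two_mul] at h2
    have h3 := orderOf_dvd_of_pow_eq_one h2
    rcases Nat.mod_two_eq_zero_or_one (orderOf M) with he | ho
    · rw [Nat.gcd_eq_left (Nat.dvd_of_mod_eq_zero he)]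
      exact Nat.dvd_of_mul_dvd_mul_left two_pos
        (by rwa [Nat.mul_div_cancel' (Nat.dvd_of_mod_eq_zero he)])
    · rw [show Nat.gcd 2 (orderOf M) = 1 from by rw [Nat.gcd_rec, ho, Nat.gcd_one_left],
        Nat.div_one]
      refine (Nat.Coprime.dvd_of_dvd_mul_left ?_ h3)
      rw [Nat.coprime_comm, Nat.coprime_iff_gcd_eq_one, Nat.gcd_rec, ho, Nat.gcd_one_left]

theorem exists_root_of_sq_eq_four (τ : F) (h : τ ^ 2 = 4) : ∃ u : F, u ^ 2 - τ * u + 1 = 0 := by
  by_cases h2 : (2 : F) = 0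
  · refine ⟨1, ?_⟩
    have : τ ^ 2 = 0 := by rw [h]; linear_combination 2 * h2
    rw [(pow_eq_zero_iff two_ne_zero).1 this]
    linear_combination h2
  · refine ⟨τ / 2, ?_⟩
    field_simp
    linear_combination -h

theorem exists_anisotropic_trace [Fintype F] : ∃ τ : F, ¬ ∃ u : F, u ^ 2 - τ * u + 1 = 0 := by
  classical
  by_contra hc
  push Not at hc
  have hsurj : Function.Surjective (fun u : {u : F // u ≠ 0} => u.1 + u.1⁻¹) := by
    intro τ
    obtain ⟨u, hu⟩ := hc τ
    have hu0 : u ≠ 0 := by rintro rfl; simp at hu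
    refine ⟨⟨u, hu0⟩, ?_⟩
    show u + u⁻¹ = τ
    field_simp
    linear_combination hu
  have := Fintype.card_le_of_surjective _ hsurj
  rw [Fintype.card_subtype_compl, Fintype.card_subtype_eq] at this
  have := Fintype.card_pos (α := F)
  omega

theorem exists_isotropic_trace [Fintype F] (h4 : 4 ≤ Fintype.card F) :
    ∃ τ : F, τ ^ 2 ≠ 4 ∧ ∃ u : F, u ^ 2 - τ * u + 1 = 0 := by
  classical
  have hcard : ({0, 1, -1} : Finset F).card < (Finset.univ : Finset F).card := by
    rw [Finset.card_univ]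
    exact lt_of_le_of_lt Finset.card_le_three h4
  obtain ⟨u, -, hu⟩ := Finset.exists_mem_notMem_of_card_lt_card hcard
  simp only [Finset.mem_insert, Finset.mem_singleton, not_or] at hu
  obtain ⟨hu0, hu1, hu2⟩ := hu
  refine ⟨u + u⁻¹, fun h => ?_, u, by field_simp; ring⟩
  have hinv : u * u⁻¹ = 1 := mul_inv_cancel₀ hu0
  have : (u - u⁻¹) ^ 2 = 0 := by linear_combination h - 4 * hinv
  have h2 : (u - 1) * (u + 1) = 0 := by
    linear_combination u * ((pow_eq_zero_iff two_ne_zero).1 this) + hinv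
  rcases mul_eq_zero.1 h2 with h3 | h3
  · exact hu1 (sub_eq_zero.1 h3)
  · exact hu2 (eq_neg_of_add_eq_zero_left h3)

theorem exists_orderOf_toPSL [Fintype F] (τ : F) (hτ : τ ^ 2 ≠ 4) (n : ℕ)
    (hn : Nat.card (Subgroup.centralizer ({comp τ} : Set (SpecialLinearGroup (Fin 2) F))) = n)
    (h : n % 2 = (Fintype.card F - 1) % 2) :
    ∃ g : ProjectiveSpecialLinearGroup (Fin 2) F,
      orderOf g = n / Nat.gcd 2 (Fintype.card F - 1) := by
  have := isCyclic_centralizer_comp τ hτ
  obtain ⟨c, hc⟩ := IsCyclic.exists_ofOrder_eq_natCard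
    (α := Subgroup.centralizer ({comp τ} : Set (SpecialLinearGroup (Fin 2) F)))
  rw [hn, ← Subgroup.orderOf_coe] at hc
  exact ⟨toPSL c.1, by rw [orderOf_toPSL _ (by rw [hc]; exact h), hc]⟩

theorem exists_orderOf_char [Fintype F] (p : ℕ) [Fact p.Prime] [CharP F p] :
    ∃ g : ProjectiveSpecialLinearGroup (Fin 2) F, orderOf g = p := by
  refine ⟨toPSL (mk2 1 1 0 1 (by ring)), orderOf_eq_prime ?_ ?_⟩
  · rw [toPSL, ← QuotientGroup.mk_pow, QuotientGroup.eq_one_iff]
    exact pow_char_mem_center p _ (by rw [coe_mk2, trace_fin_two]; simp; ring)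
  · intro h
    rw [toPSL, QuotientGroup.eq_one_iff] at h
    have := (mem_center_iff_entries.1 h).1
    simp [coe_mk2] at this

theorem mem_range_of_dvd {G : Type*} [Group G] {g : G} {m : ℕ} (h : m ∣ orderOf g)
    (hg : orderOf g ≠ 0) : m ∈ Set.range (orderOf : G → ℕ) :=
  ⟨g ^ (orderOf g / m), orderOf_pow_orderOf_div hg h⟩

/-- A lift of an element of order bigger than two and prime to the characteristic. -/
theorem exists_regular_lift [Fintype F] (p : ℕ) [Fact p.Prime] [CharP F p]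
    (x : ProjectiveSpecialLinearGroup (Fin 2) F) (hx2 : 2 < orderOf x) (hxp : ¬ orderOf x ∣ p) :
    ∃ M : SpecialLinearGroup (Fin 2) F, toPSL M = x ∧
      (M : Matrix (Fin 2) (Fin 2) F).trace ^ 2 ≠ 4 ∧ (M : Matrix (Fin 2) (Fin 2) F).trace ≠ 0 := by
  obtain ⟨M, rfl⟩ := QuotientGroup.mk_surjective x
  refine ⟨M, rfl, fun h => hxp (orderOf_dvd_of_pow_eq_one ?_), fun h => ?_⟩
  · rw [← QuotientGroup.mk_pow, QuotientGroup.eq_one_iff]
    exact pow_char_mem_center p M h
  · have h1 : M ^ 2 ∈ Subgroup.center (SpecialLinearGroup (Fin 2) F) := by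
      refine mem_center_of_scalar (-1) ?_
      rw [SpecialLinearGroup.coe_pow, sq, mul_self_eq, h, zero_smul, zero_sub, map_neg, map_one]
    have := orderOf_le_of_pow_eq_one (x := (QuotientGroup.mk M :
        ProjectiveSpecialLinearGroup (Fin 2) F)) two_pos
      (by rw [← QuotientGroup.mk_pow, QuotientGroup.eq_one_iff]; exact h1)
    omega

end CfsgLib.SL2Trace
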