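import Cfsg.Agent.Lib.SL2Trace.Basic
import Mathlib.LinearAlgebra.Matrix.ProjectiveSpecialLinearGroup
import Mathlib.LinearAlgebra.Matrix.NonsingularInverse

/-! Products of two conjugates in `SL₂` over a finite field, and element orders in `PSL₂`. -/

namespace CfsgLib.SL2Trace

open Matrix

variable {F : Type*} [Field F]

/-- A non-central element is `GL₂`-conjugate to a companion matrix. -/
theorem exists_gl_comp (G : SpecialLinearGroup (Fin 2) F)
    (hG : G ∉ Subgroup.center (SpecialLinearGroup (Fin 2) F)) :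
    ∃ P : Matrix (Fin 2) (Fin 2) F, P.det ≠ 0 ∧
      (G : Matrix (Fin 2) (Fin 2) F) * P = P * !![0, -1; 1, (G : Matrix (Fin 2) (Fin 2) F).trace] := by
  rw [mem_center_iff_entries] at hG
  have hdet := det_coe G
  obtain ⟨a, b, hab⟩ : ∃ a b : F,
      a * ((G : Matrix (Fin 2) (Fin 2) F) 1 0 * a + (G : Matrix (Fin 2) (Fin 2) F) 1 1 * b) -
        ((G : Matrix (Fin 2) (Fin 2) F) 0 0 * a + (G : Matrix (Fin 2) (Fin 2) F) 0 1 * b) * b ≠ 0 := by
    by_cases h10 : (G : Matrix (Fin 2) (Fin 2) F) 1 0 = 0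
    · by_cases h01 : (G : Matrix (Fin 2) (Fin 2) F) 0 1 = 0
      · refine ⟨1, 1, fun h => hG ⟨h01, h10, ?_⟩⟩
        rw [h01, h10] at h
        linear_combination -h
      · exact ⟨0, 1, by simpa using h01⟩
    · exact ⟨1, 0, by simpa using h10⟩
  refine ⟨!![a, (G : Matrix (Fin 2) (Fin 2) F) 0 0 * a + (G : Matrix (Fin 2) (Fin 2) F) 0 1 * b;
             b, (G : Matrix (Fin 2) (Fin 2) F) 1 0 * a + (G : Matrix (Fin 2) (Fin 2) F) 1 1 * b],
    by simpa [det_fin_two] using hab, ?_⟩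
  ext i j
  fin_cases i <;> fin_cases j <;>
    simp [Matrix.mul_apply, Fin.sum_univ_two, trace_fin_two] <;>
    first
      | ring1
      | linear_combination a * hdet
      | linear_combination b * hdet
      | linear_combination (-a) * hdet
      | linear_combination (-b) * hdet

theorem det_conj (P : Matrix (Fin 2) (Fin 2) F) (hP : P.det ≠ 0)
    (Y : SpecialLinearGroup (Fin 2) F) : (P * Y * P⁻¹).det = 1 := by
  rw [det_mul, det_mul, Y.det_coe, mul_one, ← det_mul,
    mul_nonsing_inv _ (isUnit_iff_ne_zero.2 hP), det_one]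

theorem trace_conj (P : Matrix (Fin 2) (Fin 2) F) (hP : P.det ≠ 0)
    (Y : Matrix (Fin 2) (Fin 2) F) : (P * Y * P⁻¹).trace = Y.trace := by
  rw [trace_mul_comm, ← mul_assoc, nonsing_inv_mul _ (isUnit_iff_ne_zero.2 hP), one_mul]

/-- If the quadratic equation attached to `(τ, γ)` is soluble, an element of trace `γ` is a product
of two conjugates of any element of trace `τ`. -/
theorem exists_factor [Fintype F] (M G : SpecialLinearGroup (Fin 2) F)
    (hM : (M : Matrix (Fin 2) (Fin 2) F).trace ^ 2 ≠ 4)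
    (hG : G ∉ Subgroup.center (SpecialLinearGroup (Fin 2) F))
    (hsol : ∃ a b : F, a ^ 2 + b ^ 2 - (G : Matrix (Fin 2) (Fin 2) F).trace * a * b -
      (M : Matrix (Fin 2) (Fin 2) F).trace * a + (M : Matrix (Fin 2) (Fin 2) F).trace * b + 1 = 0) :
    ∃ U V : SpecialLinearGroup (Fin 2) F, G = U * M * U⁻¹ * (V * M * V⁻¹) := by
  obtain ⟨P, hP, hGP⟩ := exists_gl_comp G hG
  obtain ⟨a, b, hab⟩ := hsol
  set τ := (M : Matrix (Fin 2) (Fin 2) F).trace with hτ
  set γ := (G : Matrix (Fin 2) (Fin 2) F).trace with hγ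
  let Y : SpecialLinearGroup (Fin 2) F :=
    mk2 a b (τ + b - a * γ) (τ - a) (by linear_combination -hab)
  let Y' : SpecialLinearGroup (Fin 2) F := ⟨P * Y * P⁻¹, det_conj P hP Y⟩
  let Z' : SpecialLinearGroup (Fin 2) F :=
    ⟨P * (Y⁻¹ * comp γ : SpecialLinearGroup (Fin 2) F) * P⁻¹, det_conj P hP _⟩
  have hY : (Y' : Matrix (Fin 2) (Fin 2) F).trace = τ := by
    show (P * (Y : Matrix (Fin 2) (Fin 2) F) * P⁻¹).trace = τ
    rw [trace_conj P hP, coe_mk2, trace_fin_two]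
    simp
  have hZ : (Z' : Matrix (Fin 2) (Fin 2) F).trace = τ := by
    show (P * ((Y⁻¹ * comp γ : SpecialLinearGroup (Fin 2) F) : Matrix (Fin 2) (Fin 2) F) * P⁻¹).trace = τ
    rw [trace_conj P hP, SpecialLinearGroup.coe_mul, SpecialLinearGroup.coe_inv, coe_mk2, coe_comp,
      adjugate_fin_two_of, trace_fin_two]
    simp [Matrix.mul_apply, Fin.sum_univ_two]
  obtain ⟨U, hU⟩ := isConj_of_trace_eq M Y' hM hY
  obtain ⟨V, hV⟩ := isConj_of_trace_eq M Z' hM hZ
  refine ⟨U, V, ?_⟩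
  rw [← hU, ← hV]
  apply Subtype.ext
  rw [SpecialLinearGroup.coe_mul]
  show (G : Matrix (Fin 2) (Fin 2) F) = P * (Y : Matrix (Fin 2) (Fin 2) F) * P⁻¹ *
    (P * ((Y⁻¹ * comp γ : SpecialLinearGroup (Fin 2) F) : Matrix (Fin 2) (Fin 2) F) * P⁻¹)
  have hu := isUnit_iff_ne_zero.2 hP
  calc (G : Matrix (Fin 2) (Fin 2) F) = (G : Matrix (Fin 2) (Fin 2) F) * P * P⁻¹ := by
        rw [mul_assoc, mul_nonsing_inv _ hu, mul_one]
    _ = P * ((Y * (Y⁻¹ * comp γ) : SpecialLinearGroup (Fin 2) F) : Matrix (Fin 2) (Fin 2) F) * P⁻¹ := by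
        rw [hGP, mul_inv_cancel_left, coe_comp]
    _ = _ := by
        rw [SpecialLinearGroup.coe_mul]
        simp only [mul_assoc]
        rw [nonsing_inv_mul_cancel_left _ _ hu]

theorem soluble_of_regular [Fintype F] (τ γ : F) (hγ : γ ^ 2 ≠ 4) :
    ∃ a b : F, a ^ 2 + b ^ 2 - γ * a * b - τ * a + τ * b + 1 = 0 := by
  have h2 : 2 + γ ≠ 0 := fun h => hγ (by linear_combination (γ - 2) * h)
  obtain ⟨a, b, hab⟩ := exists_quad_eq 1 (-γ) 1 (τ * (τ / (2 + γ)) - 1)
    (fun h => hγ (by linear_combination h))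
  have ha0 : τ / (2 + γ) * (2 + γ) = τ := div_mul_cancel₀ τ h2
  refine ⟨a + τ / (2 + γ), b - τ / (2 + γ), ?_⟩
  linear_combination hab + (a - b + τ / (2 + γ)) * ha0

/-- The image in `PSL₂`. -/
abbrev toPSL (M : SpecialLinearGroup (Fin 2) F) : ProjectiveSpecialLinearGroup (Fin 2) F :=
  QuotientGroup.mk M

theorem gcd_two_card' [Fintype F] :
    Nat.gcd 2 (Fintype.card F + 1) = Nat.gcd 2 (Fintype.card F - 1) := by
  have : 1 ≤ Fintype.card F := Fintype.card_pos
  rw [Nat.gcd_rec, show (Fintype.card F + 1) % 2 = (Fintype.card F - 1) % 2 by omega, ← Nat.gcd_rec]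

/-- Element orders in `PSL₂`. -/
theorem psl_pow_cases [Fintype F] (p : ℕ) [Fact p.Prime] [CharP F p]
    (g : ProjectiveSpecialLinearGroup (Fin 2) F) :
    g ^ p = 1 ∨ g ^ ((Fintype.card F - 1) / Nat.gcd 2 (Fintype.card F - 1)) = 1 ∨
      g ^ ((Fintype.card F + 1) / Nat.gcd 2 (Fintype.card F - 1)) = 1 := by
  obtain ⟨M, rfl⟩ := QuotientGroup.mk_surjective g
  by_cases h : (M : Matrix (Fin 2) (Fin 2) F).trace ^ 2 = 4
  · left
    rw [← QuotientGroup.mk_pow, QuotientGroup.eq_one_iff]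
    exact pow_char_mem_center p M h
  right
  obtain ⟨h1, h2⟩ := pow_eq_one_of_regular M h
  have hq : 1 ≤ Fintype.card F := Fintype.card_pos
  have key : ∀ k : ℕ, M ^ k = 1 → (k % 2 = 0 ↔ (Fintype.card F - 1) % 2 = 0) →
      (QuotientGroup.mk M : ProjectiveSpecialLinearGroup (Fin 2) F) ^
        (k / Nat.gcd 2 (Fintype.card F - 1)) = 1 := by
    intro k hk hpar
    rw [← QuotientGroup.mk_pow, QuotientGroup.eq_one_iff]
    rcases Nat.mod_two_eq_zero_or_one (Fintype.card F - 1) with he | ho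
    · have h2 : (2 : F) ≠ 0 := by
        refine Ring.two_ne_zero (fun hc => ?_)
        have := FiniteField.even_card_of_char_two hc
        omega
      rw [Nat.gcd_eq_left (Nat.dvd_of_mod_eq_zero he)]
      refine mem_center_of_sq_eq_one h2 ?_
      rw [← pow_add, show k / 2 + k / 2 = k from by have := hpar.2 he; omega, hk]
    · have hd : Nat.gcd 2 (Fintype.card F - 1) = 1 := by
        rw [Nat.gcd_rec, ho, Nat.gcd_one_left]
      rw [hd, Nat.div_one, hk]
      exact one_mem _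
  by_cases hu : ∃ u : F, u ^ 2 - (M : Matrix (Fin 2) (Fin 2) F).trace * u + 1 = 0
  · exact Or.inl (key _ (h1 hu) Iff.rfl)
  · exact Or.inr (key _ (h2 hu) (by omega))

end CfsgLib.SL2Trace
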