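import Mathlib.GroupTheory.GroupAction.CardCommute
import Mathlib.GroupTheory.Index
import Mathlib.Data.Fintype.BigOperators
import Mathlib.Tactic.Group
import Mathlib.Tactic.LinearCombination
import Mathlib.Algebra.Order.Ring.Nat
import Mathlib.Tactic.Ring

/-! Class number of a group with an abelian subgroup of index two inverted from outside. -/

namespace CfsgLib.SL2Trace

open Finset

theorem card_conjClasses_of_inverting {G : Type*} [Group G] [Finite G] (T : Subgroup G)
    (hidx : Nat.card G = 2 * Nat.card T) (hcomm : ∀ s ∈ T, ∀ t ∈ T, s * t = t * s)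
    (hinv : ∀ g, g ∉ T → ∀ t ∈ T, g * t * g⁻¹ = t⁻¹)
    (h2 : Nat.card {t : T // t * t = 1} = 2) :
    2 * Nat.card (ConjClasses G) = Nat.card T + 6 := by
  classical
  cases nonempty_fintype G
  have hindex : T.index = 2 := by
    have h := T.card_mul_index
    rw [hidx, mul_comm 2] at h
    exact Nat.eq_of_mul_eq_mul_left Nat.card_pos h
  set A := Finset.univ.filter (fun g : G => g ∈ T ∧ g * g = 1) with hA
  set B := Finset.univ.filter (fun g : G => g ∈ T ∧ g * g ≠ 1) with hB
  set C := Finset.univ.filter (fun g : G => g ∉ T) with hC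
  have hAcard : A.card = 2 := by
    rw [← h2, hA, ← Fintype.card_subtype, ← Nat.card_eq_fintype_card]
    exact Nat.card_congr
      { toFun := fun g => ⟨⟨g.1, g.2.1⟩, Subtype.ext g.2.2⟩
        invFun := fun t => ⟨t.1.1, t.1.2, congrArg Subtype.val t.2⟩
        left_inv := fun _ => rfl
        right_inv := fun _ => rfl }
  have hTcard : (Finset.univ.filter (fun g : G => g ∈ T)).card = Nat.card T := by
    rw [← Fintype.card_subtype, Nat.card_eq_fintype_card]
  have hAB : A.card + B.card = Nat.card T := by
    rw [← hTcard, ← Finset.card_filter_add_card_filter_not (s := Finset.univ.filter fun g : G => g ∈ T)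
      (fun g => g * g = 1), Finset.filter_filter, Finset.filter_filter]
  have hCcard : C.card = Nat.card T := by
    have h := Finset.card_filter_add_card_filter_not (s := (Finset.univ : Finset G)) (fun g => g ∈ T)
    rw [Finset.card_univ, ← Nat.card_eq_fintype_card (α := G), hidx, hTcard] at h
    rw [hC]; omega
  have hz : ∀ g ∈ A, (Finset.univ.filter fun h => Commute g h).card = 2 * Nat.card T := by
    intro g hg
    simp only [hA, Finset.mem_filter, Finset.mem_univ, true_and] at hg
    rw [Finset.filter_true_of_mem, Finset.card_univ, ← Nat.card_eq_fintype_card, hidx]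
    intro h _
    by_cases hh : h ∈ T
    · exact hcomm g hg.1 h hh
    · have := hinv h hh g hg.1
      rw [inv_eq_of_mul_eq_one_right hg.2, mul_inv_eq_iff_eq_mul] at this
      exact this.symm
  have hy : ∀ g ∈ B, (Finset.univ.filter fun h => Commute g h).card = Nat.card T := by
    intro g hg
    simp only [hB, Finset.mem_filter, Finset.mem_univ, true_and] at hg
    rw [← hTcard]
    congr 1
    apply Finset.filter_congr
    intro h _
    refine ⟨fun hgh => ?_, fun hh => hcomm g hg.1 h hh⟩
    by_contra hh
    have := hinv h hh g hg.1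
    rw [← hgh.eq, mul_inv_cancel_right] at this
    exact hg.2 (mul_eq_one_iff_eq_inv.2 this)
  have hw : ∀ g ∈ C, (Finset.univ.filter fun h => Commute g h).card = 4 := by
    intro g hg
    simp only [hC, Finset.mem_filter, Finset.mem_univ, true_and] at hg
    have hcz : ∀ t ∈ T, (Commute g t ↔ t * t = 1) := by
      intro t ht
      constructor
      · intro h
        have := hinv g hg t ht
        rw [h.eq, mul_inv_cancel_right] at this
        exact mul_eq_one_iff_eq_inv.2 this
      · intro h
        have := hinv g hg t ht
        rw [inv_eq_of_mul_eq_one_right h, mul_inv_eq_iff_eq_mul] at this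
        exact this
    have hset : (Finset.univ.filter fun h => Commute g h) = A ∪ A.image (g * ·) := by
      ext h
      simp only [hA, Finset.mem_filter, Finset.mem_univ, true_and, Finset.mem_union, Finset.mem_image]
      constructor
      · intro hh
        by_cases hT : h ∈ T
        · exact Or.inl ⟨hT, (hcz h hT).1 hh⟩
        · have hT' : g⁻¹ * h ∈ T :=
            (Subgroup.mul_mem_iff_of_index_two hindex).2 (by simp [hg, hT])
          have hc : Commute g (g⁻¹ * h) := ((Commute.refl g).inv_right).mul_right hh
          exact Or.inr ⟨g⁻¹ * h, ⟨hT', (hcz _ hT').1 hc⟩, by group⟩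
      · rintro (⟨hT, hh⟩ | ⟨t, ⟨hT, hh⟩, rfl⟩)
        · exact (hcz h hT).2 hh
        · exact (Commute.refl g).mul_right ((hcz t hT).2 hh)
    rw [hset, Finset.card_union_of_disjoint, Finset.card_image_of_injective _ (mul_right_injective g),
      hAcard]
    rw [Finset.disjoint_left]
    intro h hh hh'
    simp only [hA, Finset.mem_filter, Finset.mem_univ, true_and, Finset.mem_image] at hh hh'
    obtain ⟨t, ⟨ht, -⟩, rfl⟩ := hh'
    exact hg ((Subgroup.mul_mem_cancel_right _ ht).1 hh.1)
  have hsum : Nat.card {p : G × G // Commute p.1 p.2} =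
      ∑ g : G, (Finset.univ.filter fun h => Commute g h).card := by
    rw [Nat.card_eq_fintype_card, Fintype.card_subtype,
      Finset.card_eq_sum_card_fiberwise (f := Prod.fst) (t := Finset.univ) (fun _ _ => Finset.mem_univ _)]
    refine Finset.sum_congr rfl fun g _ => ?_
    exact Finset.card_bij (fun p _ => p.2)
      (fun p hp => by
        simp only [Finset.mem_filter, Finset.mem_univ, true_and] at hp ⊢
        exact hp.2 ▸ hp.1)
      (fun p hp p' hp' e => by
        simp only [Finset.mem_filter, Finset.mem_univ, true_and] at hp hp'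
        exact Prod.ext (hp.2.trans hp'.2.symm) e)
      (fun h hh => ⟨(g, h), by simpa using hh, rfl⟩)
  have hsplit : ∑ g : G, (Finset.univ.filter fun h => Commute g h).card =
      A.card * (2 * Nat.card T) + B.card * Nat.card T + C.card * 4 := by
    rw [← Finset.sum_filter_add_sum_filter_not Finset.univ (fun g : G => g ∈ T),
      ← Finset.sum_filter_add_sum_filter_not (Finset.univ.filter fun g : G => g ∈ T) (fun g => g * g = 1),
      Finset.filter_filter, Finset.filter_filter, Finset.sum_congr rfl hz, Finset.sum_congr rfl hy,
      Finset.sum_congr rfl hw]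
    simp
  have hk := card_comm_eq_card_conjClasses_mul_card G
  rw [hsum, hsplit, hAcard, hCcard, hidx] at hk
  obtain ⟨b, hb⟩ : ∃ b, B.card = b := ⟨_, rfl⟩
  rw [hb] at hk
  rw [hAcard, hb] at hAB
  apply Nat.eq_of_mul_eq_mul_right (Nat.card_pos (α := T))
  rw [← hAB] at hk ⊢
  linear_combination -hk

end CfsgLib.SL2Trace
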