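import Cfsg.Agent.Lib.SL2Trace.Orders
import Cfsg.Agent.Lib.SL2Trace.InvertCount
import Mathlib.FieldTheory.Finite.Basic
import Mathlib.NumberTheory.LegendreSymbol.QuadraticChar.Basic

/-! Maximal tori of `SL₂` over a finite field of odd characteristic and their normalisers. -/

namespace CfsgLib.SL2Trace

open Matrix

variable {F : Type*} [Field F]

local notation "SL2" => SpecialLinearGroup (Fin 2) F

theorem two_ne_zero_of_odd [Fintype F] (h : Odd (Fintype.card F)) : (2 : F) ≠ 0 := by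
  refine Ring.two_ne_zero fun hc => ?_
  have := FiniteField.even_card_of_char_two hc
  rw [Nat.odd_iff] at h
  omega

theorem trace_inv (g : SL2) :
    ((g⁻¹ : SL2) : Matrix (Fin 2) (Fin 2) F).trace = (g : Matrix (Fin 2) (Fin 2) F).trace := by
  rw [SpecialLinearGroup.coe_inv, adjugate_fin_two, trace_fin_two, trace_fin_two]
  simp [add_comm]

theorem sq_ne_one_of_regular (M : SL2) (h2 : (2 : F) ≠ 0)
    (h : (M : Matrix (Fin 2) (Fin 2) F).trace ^ 2 ≠ 4) : M * M ≠ 1 :=
  fun h1 => h (trace_sq_of_mem_center (mem_center_of_sq_eq_one h2 h1))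

variable [Fintype F] {M : SpecialLinearGroup (Fin 2) F} (hM : (M : Matrix (Fin 2) (Fin 2) F).trace ^ 2 ≠ 4)

local notation "T[" M "]" => Subgroup.centralizer ({M} : Set (SpecialLinearGroup (Fin 2) F))

omit [Fintype F] in
theorem self_mem (M : SL2) : M ∈ T[M] := Subgroup.mem_centralizer_singleton_iff.2 rfl

include hM

theorem torus_comm {a b : SL2} (ha : a ∈ T[M]) (hb : b ∈ T[M]) : a * b = b * a := by
  have := (centralizer_card_cyclic M hM).1
  let _ := IsCyclic.commGroup (α := T[M])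
  exact congrArg Subtype.val (mul_comm (⟨a, ha⟩ : T[M]) ⟨b, hb⟩)

/-- Coordinates on a torus. -/
theorem exists_coords {g : SL2} (hg : g ∈ T[M]) :
    ∃ (P h : SL2), g = P * h * P⁻¹ ∧ M = P * comp (M : Matrix (Fin 2) (Fin 2) F).trace * P⁻¹ ∧
      h ∈ Subgroup.centralizer ({comp (M : Matrix (Fin 2) (Fin 2) F).trace} : Set SL2) := by
  obtain ⟨P, hP⟩ := exists_conj_comp M hM
  refine ⟨P, P⁻¹ * g * P, by group, hP, ?_⟩
  rw [Subgroup.mem_centralizer_singleton_iff] at hg ⊢
  set C := comp (M : Matrix (Fin 2) (Fin 2) F).trace with hC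
  rw [hP] at hg
  calc P⁻¹ * g * P * C = P⁻¹ * (g * (P * C * P⁻¹)) * P := by group
    _ = P⁻¹ * ((P * C * P⁻¹) * g) * P := by rw [hg]
    _ = C * (P⁻¹ * g * P) := by group

theorem regular_of_mem {g : SL2} (hg : g ∈ T[M])
    (hc : g ∉ Subgroup.center SL2) : (g : Matrix (Fin 2) (Fin 2) F).trace ^ 2 ≠ 4 := by
  intro htr
  obtain ⟨P, h, rfl, hP, hh⟩ := exists_coords hM hg
  rw [trace_mul_mul_inv] at htr
  obtain ⟨h1, h2⟩ := (mem_centralizer_comp_iff _ h).1 hh
  have hdet := det_coe h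
  rw [h1, h2] at hdet
  rw [trace_fin_two, h2] at htr
  set b := (h : Matrix (Fin 2) (Fin 2) F) 1 0
  set τ := (M : Matrix (Fin 2) (Fin 2) F).trace
  have hb : b ^ 2 * (τ ^ 2 - 4) = 0 := by linear_combination htr - 4 * hdet
  rcases mul_eq_zero.1 hb with hb | hb
  · have hb0 : b = 0 := (pow_eq_zero_iff two_ne_zero).1 hb
    have hcent : h ∈ Subgroup.center SL2 :=
      mem_center_iff_entries.2 ⟨by rw [h1, hb0, neg_zero], hb0, by rw [h2, hb0]; ring⟩
    apply hc
    rw [show P * h * P⁻¹ = h from by rw [Subgroup.mem_center_iff.1 hcent P, mul_inv_cancel_right]]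
    exact hcent
  · exact hM (sub_eq_zero.1 hb)

theorem centralizer_eq {g : SL2} (hg : g ∈ T[M]) (hc : g ∉ Subgroup.center SL2) : T[g] = T[M] := by
  have hgreg := regular_of_mem hM hg hc
  have hMg : M ∈ T[g] := by
    rw [Subgroup.mem_centralizer_singleton_iff] at hg ⊢
    exact hg.symm
  ext x
  constructor
  · intro hx
    rw [Subgroup.mem_centralizer_singleton_iff]
    exact torus_comm hgreg hx hMg
  · intro hx
    rw [Subgroup.mem_centralizer_singleton_iff]
    exact torus_comm hM hx hg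

theorem eq_or_eq_inv_of_trace_eq (h2' : (2 : F) ≠ 0) {g g' : SL2} (hg : g ∈ T[M]) (hg' : g' ∈ T[M])
    (ht : (g' : Matrix (Fin 2) (Fin 2) F).trace = (g : Matrix (Fin 2) (Fin 2) F).trace) :
    g' = g ∨ g' = g⁻¹ := by
  obtain ⟨P, h, rfl, hP, hh⟩ := exists_coords hM hg
  set τ := (M : Matrix (Fin 2) (Fin 2) F).trace with hτ
  have hh' : P⁻¹ * g' * P ∈ Subgroup.centralizer ({comp τ} : Set SL2) := by
    rw [Subgroup.mem_centralizer_singleton_iff] at hg' ⊢
    rw [hP] at hg'
    calc P⁻¹ * g' * P * comp τ = P⁻¹ * (g' * (P * comp τ * P⁻¹)) * P := by group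
      _ = P⁻¹ * ((P * comp τ * P⁻¹) * g') * P := by rw [hg']
      _ = comp τ * (P⁻¹ * g' * P) := by group
  obtain ⟨h', rfl⟩ : ∃ h', g' = P * h' * P⁻¹ := ⟨P⁻¹ * g' * P, by group⟩
  rw [show P⁻¹ * (P * h' * P⁻¹) * P = h' by group] at hh'
  rw [trace_mul_mul_inv, trace_mul_mul_inv] at ht
  obtain ⟨h1, h2⟩ := (mem_centralizer_comp_iff _ h).1 hh
  obtain ⟨h1', h2''⟩ := (mem_centralizer_comp_iff _ h').1 hh'
  have hdet := det_coe h
  have hdet' := det_coe h'
  rw [h1, h2] at hdet
  rw [h1', h2''] at hdet'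
  rw [trace_fin_two, trace_fin_two, h2, h2''] at ht
  set a := (h : Matrix (Fin 2) (Fin 2) F) 0 0
  set b := (h : Matrix (Fin 2) (Fin 2) F) 1 0
  set a' := (h' : Matrix (Fin 2) (Fin 2) F) 0 0
  set b' := (h' : Matrix (Fin 2) (Fin 2) F) 1 0
  have hb : (b' - b) * (b' + b) * (τ ^ 2 - 4) = 0 := by
    linear_combination -4 * hdet' + 4 * hdet + ((2 * a' + τ * b') + (2 * a + τ * b)) * ht
  rcases mul_eq_zero.1 hb with hb | hb
  · rcases mul_eq_zero.1 hb with hb | hb
    · left
      have hbb : b' = b := sub_eq_zero.1 hb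
      have haa : a' = a := mul_left_cancel₀ h2' (by linear_combination ht - τ * hbb)
      congr 2
      apply Subtype.ext
      ext i j
      fin_cases i <;> fin_cases j
      · exact haa
      · show (h' : Matrix (Fin 2) (Fin 2) F) 0 1 = (h : Matrix (Fin 2) (Fin 2) F) 0 1
        rw [h1, h1']
        linear_combination -hbb
      · exact hbb
      · show (h' : Matrix (Fin 2) (Fin 2) F) 1 1 = (h : Matrix (Fin 2) (Fin 2) F) 1 1
        rw [h2, h2'']
        linear_combination haa + τ * hbb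
    · right
      have hbb : b' = -b := eq_neg_of_add_eq_zero_left hb
      have haa : a' = a + τ * b := mul_left_cancel₀ h2' (by linear_combination ht - τ * hbb)
      have : h' = h⁻¹ := by
        apply Subtype.ext
        rw [SpecialLinearGroup.coe_inv, adjugate_fin_two]
        ext i j
        fin_cases i <;> fin_cases j
        · show a' = (h : Matrix (Fin 2) (Fin 2) F) 1 1
          rw [h2, haa]
        · show (h' : Matrix (Fin 2) (Fin 2) F) 0 1 = -(h : Matrix (Fin 2) (Fin 2) F) 0 1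
          rw [h1', h1, hbb]
        · exact hbb
        · show (h' : Matrix (Fin 2) (Fin 2) F) 1 1 = a
          rw [h2'', haa, hbb]; ring
      rw [this]
      group
  · exact absurd (sub_eq_zero.1 hb) hM

theorem exists_inverter : ∃ U : SL2, U * M * U⁻¹ = M⁻¹ := by
  obtain ⟨U, hU⟩ := isConj_of_trace_eq M M⁻¹ hM (trace_inv M)
  exact ⟨U, hU.symm⟩

theorem inverts_of_conj_eq_inv {U : SL2} (h2 : (2 : F) ≠ 0) (hU : U * M * U⁻¹ = M⁻¹) :
    U ∉ T[M] ∧ (∀ t ∈ T[M], U * t * U⁻¹ = t⁻¹) := by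
  have hUT : U ∉ T[M] := by
    intro h
    rw [Subgroup.mem_centralizer_singleton_iff] at h
    rw [h, mul_inv_cancel_right] at hU
    exact sq_ne_one_of_regular M h2 hM (mul_eq_one_iff_eq_inv.2 hU)
  refine ⟨hUT, fun t ht => ?_⟩
  by_cases hc : t ∈ Subgroup.center SL2
  · rw [Subgroup.mem_center_iff.1 hc U, mul_inv_cancel_right]
    exact eq_inv_of_mul_eq_one_left (mul_self_eq_one_of_mem_center hc)
  have hmem : U * t * U⁻¹ ∈ T[M] := by
    rw [Subgroup.mem_centralizer_singleton_iff] at ht ⊢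
    have hM' : M = U * M⁻¹ * U⁻¹ := by
      have := congrArg (·⁻¹) hU
      simp only [inv_inv] at this
      calc M = (U * M * U⁻¹)⁻¹ := this.symm
        _ = _ := by group
    calc U * t * U⁻¹ * M = U * t * U⁻¹ * (U * M⁻¹ * U⁻¹) := by rw [← hM']
      _ = U * (t * M⁻¹) * U⁻¹ := by group
      _ = U * (M⁻¹ * t) * U⁻¹ := by rw [(show Commute t M from ht).inv_right.eq]
      _ = (U * M⁻¹ * U⁻¹) * (U * t * U⁻¹) := by group
      _ = M * (U * t * U⁻¹) := by rw [← hM']
  rcases eq_or_eq_inv_of_trace_eq hM h2 ht hmem (trace_mul_mul_inv t) with h | h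
  · exfalso
    apply hUT
    rw [← centralizer_eq hM ht hc, Subgroup.mem_centralizer_singleton_iff]
    exact mul_inv_eq_iff_eq_mul.1 h
  · exact h

theorem mem_normalizer_iff_cases (h2 : (2 : F) ≠ 0) (g : SL2) :
    g ∈ Subgroup.normalizer (T[M] : Set SL2) ↔ g ∈ T[M] ∨ g * M * g⁻¹ = M⁻¹ := by
  constructor
  · intro hg
    have hgM : g * M * g⁻¹ ∈ T[M] := (Subgroup.mem_normalizer_iff.1 hg M).1 (self_mem M)
    rcases eq_or_eq_inv_of_trace_eq hM h2 (self_mem M) hgM (trace_mul_mul_inv M) with h | h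
    · left
      rw [Subgroup.mem_centralizer_singleton_iff]
      exact mul_inv_eq_iff_eq_mul.1 h
    · exact Or.inr h
  · rintro (hg | hg)
    · exact Subgroup.le_normalizer hg
    · obtain ⟨-, hinv⟩ := inverts_of_conj_eq_inv hM h2 hg
      rw [Subgroup.mem_normalizer_iff]
      intro t
      constructor
      · intro ht
        rw [hinv t ht]
        exact inv_mem ht
      · intro ht
        have := hinv _ ht
        have e : t⁻¹ = g⁻¹ * (g * t * g⁻¹)⁻¹ * g := by group
        rw [← this] at e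
        rw [show g⁻¹ * (g * (g * t * g⁻¹) * g⁻¹) * g = g * t * g⁻¹ by group] at e
        rw [← inv_mem_iff, e]
        exact ht

theorem outside_inverts (h2 : (2 : F) ≠ 0) {g : SL2}
    (hg : g ∈ Subgroup.normalizer (T[M] : Set SL2)) (hgT : g ∉ T[M]) :
    (∀ t ∈ T[M], g * t * g⁻¹ = t⁻¹) ∧ ((g * g : SL2) : Matrix (Fin 2) (Fin 2) F) = -1 := by
  have hgM := ((mem_normalizer_iff_cases hM h2 g).1 hg).resolve_left hgT
  obtain ⟨-, hinv⟩ := inverts_of_conj_eq_inv hM h2 hgM
  refine ⟨hinv, ?_⟩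
  have hgg : g * g ∈ T[M] := by
    rw [Subgroup.mem_centralizer_singleton_iff]
    have h1 : g * M⁻¹ * g⁻¹ = M := by rw [hinv _ (inv_mem (self_mem M)), inv_inv]
    calc g * g * M = g * (g * M * g⁻¹) * g⁻¹ * (g * g) := by group
      _ = M * (g * g) := by rw [hgM, h1]
  have hcent : g * g ∈ Subgroup.center SL2 := by
    by_contra hc
    apply hgT
    rw [← centralizer_eq hM hgg hc, Subgroup.mem_centralizer_singleton_iff]
    group
  obtain ⟨r, hr, hrg⟩ := SpecialLinearGroup.mem_center_iff.1 hcent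
  rw [Fintype.card_fin] at hr
  rcases sq_eq_one_iff.1 hr with rfl | rfl
  · exfalso
    apply hgT
    have hg1 : g * g = 1 := Subtype.ext (by rw [← hrg]; simp)
    exact Subgroup.center_le_centralizer _ (mem_center_of_sq_eq_one h2 hg1)
  · rw [← hrg, map_neg, map_one]

theorem card_normalizer_torus (h2 : (2 : F) ≠ 0) :
    Nat.card (Subgroup.normalizer (T[M] : Set SL2)) = 2 * Nat.card T[M] := by
  classical
  obtain ⟨U, hU⟩ := exists_inverter hM
  obtain ⟨hUT, -⟩ := inverts_of_conj_eq_inv hM h2 hU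
  have hUN : U ∈ Subgroup.normalizer (T[M] : Set SL2) := (mem_normalizer_iff_cases hM h2 U).2 (Or.inr hU)
  rw [two_mul, ← Nat.card_sum]
  refine (Nat.card_eq_of_bijective (fun x : T[M] ⊕ T[M] => (Sum.elim
    (fun t => (⟨t.1, Subgroup.le_normalizer t.2⟩ : Subgroup.normalizer (T[M] : Set SL2)))
    (fun t => ⟨U * t.1, mul_mem hUN (Subgroup.le_normalizer t.2)⟩) x)) ⟨?_, ?_⟩).symm
  · rintro (a | a) (b | b) h <;> simp only [Sum.elim_inl, Sum.elim_inr, Subtype.mk.injEq] at h
    · exact congrArg Sum.inl (Subtype.ext h)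
    · exact absurd ((Subgroup.mul_mem_cancel_right _ b.2).1 (h ▸ a.2)) hUT
    · exact absurd ((Subgroup.mul_mem_cancel_right _ a.2).1 (h.symm ▸ b.2)) hUT
    · exact congrArg Sum.inr (Subtype.ext (mul_left_cancel h))
  · rintro ⟨g, hg⟩
    by_cases hgT : g ∈ T[M]
    · exact ⟨Sum.inl ⟨g, hgT⟩, rfl⟩
    · have hgM := ((mem_normalizer_iff_cases hM h2 g).1 hg).resolve_left hgT
      have : U⁻¹ * g ∈ T[M] := by
        rw [Subgroup.mem_centralizer_singleton_iff]
        calc U⁻¹ * g * M = U⁻¹ * (g * M * g⁻¹) * g := by group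
          _ = U⁻¹ * (U * M * U⁻¹) * g := by rw [hgM, ← hU]
          _ = M * (U⁻¹ * g) := by group
      exact ⟨Sum.inr ⟨_, this⟩, by simp⟩

theorem neg_one_mem : (-1 : SL2) ∈ T[M] := by
  rw [Subgroup.mem_centralizer_singleton_iff]
  apply Subtype.ext
  simp [SpecialLinearGroup.coe_mul, SpecialLinearGroup.coe_neg]

theorem card_involutions (h2 : (2 : F) ≠ 0) : Nat.card {t : T[M] // t * t = 1} = 2 := by
  have hne : (1 : SL2) ≠ -1 := by
    intro h
    have := congrFun (congrFun (congrArg Subtype.val h) 0) 0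
    simp at this
    exact h2 (by linear_combination this)
  rw [Nat.card_eq_two_iff]
  refine ⟨⟨1, one_mul 1⟩, ⟨⟨-1, neg_one_mem hM⟩, Subtype.ext ?_⟩, ?_, ?_⟩
  · apply Subtype.ext
    simp [SpecialLinearGroup.coe_mul, SpecialLinearGroup.coe_neg]
  · intro h
    exact hne (congrArg (fun x => ((x : T[M]) : SL2)) (congrArg Subtype.val h))
  · ext t
    simp only [Set.mem_insert_iff, Set.mem_singleton_iff, Set.mem_univ, iff_true]
    obtain ⟨r, hr, hrt⟩ := SpecialLinearGroup.mem_center_iff.1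
      (mem_center_of_sq_eq_one h2 (congrArg Subtype.val t.2))
    rw [Fintype.card_fin] at hr
    rcases sq_eq_one_iff.1 hr with rfl | rfl
    · left
      apply Subtype.ext; apply Subtype.ext; apply Subtype.ext
      rw [← hrt]; simp
    · right
      apply Subtype.ext; apply Subtype.ext; apply Subtype.ext
      rw [← hrt, map_neg, map_one]; simp

theorem card_conjClasses_normalizer (h2 : (2 : F) ≠ 0) :
    2 * Nat.card (ConjClasses (Subgroup.normalizer (T[M] : Set SL2))) = Nat.card T[M] + 6 := by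
  set N := Subgroup.normalizer (T[M] : Set SL2) with hN
  have hle : T[M] ≤ N := Subgroup.le_normalizer
  have e : (T[M].subgroupOf N) ≃* T[M] := Subgroup.subgroupOfEquivOfLe hle
  rw [← Nat.card_congr e.toEquiv]
  refine card_conjClasses_of_inverting (T[M].subgroupOf N) ?_ ?_ ?_ ?_
  · rw [Nat.card_congr e.toEquiv, hN, card_normalizer_torus hM h2]
  · intro s hs t ht
    exact Subtype.ext (torus_comm hM hs ht)
  · intro g hg t ht
    exact Subtype.ext ((outside_inverts hM h2 g.2 hg).1 t.1 ht)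
  · refine Eq.trans ?_ (card_involutions hM h2)
    exact Nat.card_congr
      { toFun := fun t => ⟨e t.1, by rw [← map_mul, t.2, map_one]⟩
        invFun := fun t => ⟨e.symm t.1, by rw [← map_mul, t.2, map_one]⟩
        left_inv := fun t => Subtype.ext (e.symm_apply_apply t.1)
        right_inv := fun t => Subtype.ext (e.apply_symm_apply t.1) }

omit hM in
theorem isSquare_disc_of_root (τ : F) {u : F} (hu : u ^ 2 - τ * u + 1 = 0) : IsSquare (τ ^ 2 - 4) :=
  ⟨2 * u - τ, by linear_combination -4 * hu⟩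

omit hM in
theorem root_of_isSquare_disc (h2 : (2 : F) ≠ 0) (τ : F) (h : IsSquare (τ ^ 2 - 4)) :
    ∃ u : F, u ^ 2 - τ * u + 1 = 0 := by
  obtain ⟨d, hd⟩ := h
  refine ⟨(τ + d) / 2, ?_⟩
  field_simp
  linear_combination -hd

theorem exists_mem_trace (h2 : (2 : F) ≠ 0) (σ : F)
    (hsame : IsSquare (σ ^ 2 - 4) ↔ IsSquare ((M : Matrix (Fin 2) (Fin 2) F).trace ^ 2 - 4)) :
    ∃ Y ∈ T[M], (Y : Matrix (Fin 2) (Fin 2) F).trace = σ := by
  classical
  set τ := (M : Matrix (Fin 2) (Fin 2) F).trace with hτ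
  have hne : τ ^ 2 - 4 ≠ 0 := sub_ne_zero.2 hM
  obtain ⟨b, hb⟩ : ∃ b : F, b * b * (τ ^ 2 - 4) = σ ^ 2 - 4 := by
    by_cases hσ : σ ^ 2 - 4 = 0
    · exact ⟨0, by rw [hσ]; ring⟩
    · have hr : IsSquare ((σ ^ 2 - 4) / (τ ^ 2 - 4)) := by
        by_cases hs : IsSquare (τ ^ 2 - 4)
        · exact (hsame.2 hs).div hs
        · have hs' : ¬IsSquare (σ ^ 2 - 4) := fun h => hs (hsame.1 h)
          rw [← quadraticChar_neg_one_iff_not_isSquare] at hs hs'
          rw [← quadraticChar_one_iff_isSquare (div_ne_zero hσ hne)]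
          have : quadraticChar F ((σ ^ 2 - 4) / (τ ^ 2 - 4)) * quadraticChar F (τ ^ 2 - 4) =
              quadraticChar F (σ ^ 2 - 4) := by rw [← map_mul, div_mul_cancel₀ _ hne]
          rw [hs, hs'] at this
          linarith
      obtain ⟨b, hb⟩ := hr
      exact ⟨b, by rw [← hb, div_mul_cancel₀ _ hne]⟩
  obtain ⟨a, ha⟩ : ∃ a : F, 2 * a + τ * b = σ :=
    ⟨(σ - τ * b) / 2, by field_simp; ring⟩
  obtain ⟨P, hP⟩ := exists_conj_comp M hM
  let h : SL2 := mk2 a (-b) b (a + τ * b) (by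
    apply mul_left_cancel₀ (mul_ne_zero h2 h2)
    linear_combination (2 * a + τ * b + σ) * ha - hb)
  refine ⟨P * h * P⁻¹, ?_, ?_⟩
  · rw [Subgroup.mem_centralizer_singleton_iff]
    have hh : h ∈ Subgroup.centralizer ({comp τ} : Set SL2) := by
      rw [mem_centralizer_comp_iff]; simp [h, coe_mk2]
    rw [Subgroup.mem_centralizer_singleton_iff] at hh
    rw [← hτ] at hP
    calc P * h * P⁻¹ * M = P * h * P⁻¹ * (P * comp τ * P⁻¹) := by rw [← hP]
      _ = P * (h * comp τ) * P⁻¹ := by group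
      _ = P * (comp τ * h) * P⁻¹ := by rw [hh]
      _ = (P * comp τ * P⁻¹) * (P * h * P⁻¹) := by group
      _ = M * (P * h * P⁻¹) := by rw [← hP]
  · rw [trace_mul_mul_inv, trace_fin_two]
    simp [h, coe_mk2]
    linear_combination ha

end CfsgLib.SL2Trace
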