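import Mathlib.LinearAlgebra.Matrix.SpecialLinearGroup
import Mathlib.LinearAlgebra.Matrix.Charpoly.Basic
import Mathlib.LinearAlgebra.Matrix.Trace
import Mathlib.FieldTheory.Finite.Basic
import Mathlib.FieldTheory.IsAlgClosed.AlgebraicClosure
import Mathlib.RingTheory.IntegralDomain
import Mathlib.Algebra.CharP.Algebra
import Mathlib.GroupTheory.OrderOfElement
import Mathlib.Tactic.FieldSimp
import Mathlib.Tactic.LinearCombination
import Mathlib.Tactic.Ring

/-! Traces, conjugacy and centralizers in `SL₂` over a finite field. -/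

namespace CfsgLib.SL2Trace

open Matrix Polynomial

variable {F : Type*} [Field F]

/-- A binary quadratic form with non-zero discriminant over a finite field represents everything. -/
theorem exists_quad_eq [Fintype F] (x y z c : F) (h : y ^ 2 - 4 * x * z ≠ 0) :
    ∃ a b : F, x * a ^ 2 + y * a * b + z * b ^ 2 = c := by
  by_cases hx : x = 0
  · have hy : y ≠ 0 := by rintro rfl; exact h (by rw [hx]; ring)
    exact ⟨(c - z) / y, 1, by rw [hx]; field_simp; ring⟩
  by_cases h2 : ringChar F = 2
  · obtain ⟨r, hr⟩ := FiniteField.isSquare_of_char_two h2 (c / x)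
    refine ⟨r, 0, ?_⟩
    have : x * (r * r) = c := by rw [← hr]; field_simp
    linear_combination this
  · have two_ne : (2 : F) ≠ 0 := Ring.two_ne_zero h2
    have hcard := FiniteField.odd_card_of_char_ne_two h2
    obtain ⟨u, b, hub⟩ := FiniteField.exists_root_sum_quadratic (R := F)
      (f := (X : F[X]) ^ 2) (g := C (-(y ^ 2 - 4 * x * z)) * X ^ 2 - C (4 * x * c))
      (degree_X_pow 2)
      (by
        rw [degree_sub_eq_left_of_degree_lt]
        · exact degree_C_mul_X_pow 2 (neg_ne_zero.2 h)
        · rw [degree_C_mul_X_pow 2 (neg_ne_zero.2 h)]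
          exact lt_of_le_of_lt degree_C_le (by decide))
      hcard
    simp only [eval_pow, eval_X, eval_sub, eval_mul, eval_C] at hub
    refine ⟨(u - y * b) / (2 * x), b, ?_⟩
    field_simp
    linear_combination hub

/-- The companion matrix of `t² - τ t + 1`, as an element of `SL₂`. -/
def comp (τ : F) : SpecialLinearGroup (Fin 2) F :=
  ⟨!![0, -1; 1, τ], by simp [det_fin_two]⟩

theorem coe_comp (τ : F) : (comp τ : Matrix (Fin 2) (Fin 2) F) = !![0, -1; 1, τ] := rfl

/-- Build an element of `SL₂` from its entries. -/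
def mk2 (a b c d : F) (h : a * d - b * c = 1) : SpecialLinearGroup (Fin 2) F :=
  ⟨!![a, b; c, d], by simp [det_fin_two, h]⟩

theorem coe_mk2 (a b c d : F) (h : a * d - b * c = 1) :
    (mk2 a b c d h : Matrix (Fin 2) (Fin 2) F) = !![a, b; c, d] := rfl

theorem det_coe (M : SpecialLinearGroup (Fin 2) F) :
    (M : Matrix (Fin 2) (Fin 2) F) 0 0 * (M : Matrix (Fin 2) (Fin 2) F) 1 1 -
      (M : Matrix (Fin 2) (Fin 2) F) 0 1 * (M : Matrix (Fin 2) (Fin 2) F) 1 0 = 1 := by
  rw [← det_fin_two]; exact M.det_coe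

theorem trace_mul_mul_inv {G : SpecialLinearGroup (Fin 2) F} (M : SpecialLinearGroup (Fin 2) F) :
    ((G * M * G⁻¹ : SpecialLinearGroup (Fin 2) F) : Matrix (Fin 2) (Fin 2) F).trace =
      (M : Matrix (Fin 2) (Fin 2) F).trace := by
  rw [SpecialLinearGroup.coe_mul, trace_mul_comm, ← SpecialLinearGroup.coe_mul, inv_mul_cancel_left]

/-- Trace determines the conjugacy class of a regular semisimple element. -/
theorem exists_conj_comp [Fintype F] (M : SpecialLinearGroup (Fin 2) F)
    (h : (M : Matrix (Fin 2) (Fin 2) F).trace ^ 2 ≠ 4) :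
    ∃ P : SpecialLinearGroup (Fin 2) F,
      M = P * comp (M : Matrix (Fin 2) (Fin 2) F).trace * P⁻¹ := by
  have hdet := det_coe M
  rw [trace_fin_two] at h
  obtain ⟨a, b, hab⟩ := exists_quad_eq ((M : Matrix (Fin 2) (Fin 2) F) 1 0)
    ((M : Matrix (Fin 2) (Fin 2) F) 1 1 - (M : Matrix (Fin 2) (Fin 2) F) 0 0)
    (-(M : Matrix (Fin 2) (Fin 2) F) 0 1) 1 (fun hD => h (by linear_combination hD + 4 * hdet))
  refine ⟨mk2 a ((M : Matrix (Fin 2) (Fin 2) F) 0 0 * a + (M : Matrix (Fin 2) (Fin 2) F) 0 1 * b)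
              b ((M : Matrix (Fin 2) (Fin 2) F) 1 0 * a + (M : Matrix (Fin 2) (Fin 2) F) 1 1 * b)
            (by linear_combination hab), ?_⟩
  rw [eq_mul_inv_iff_mul_eq]
  apply Subtype.ext
  rw [SpecialLinearGroup.coe_mul, SpecialLinearGroup.coe_mul, coe_comp, coe_mk2]
  ext i j
  fin_cases i <;> fin_cases j <;>
    simp [Matrix.mul_apply, Fin.sum_univ_two, trace_fin_two] <;>
    first
      | ring1
      | linear_combination a * hdet
      | linear_combination b * hdet
      | linear_combination (-a) * hdet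
      | linear_combination (-b) * hdet

theorem isConj_of_trace_eq [Fintype F] (M N : SpecialLinearGroup (Fin 2) F)
    (h : (M : Matrix (Fin 2) (Fin 2) F).trace ^ 2 ≠ 4)
    (hMN : (N : Matrix (Fin 2) (Fin 2) F).trace = (M : Matrix (Fin 2) (Fin 2) F).trace) :
    ∃ U : SpecialLinearGroup (Fin 2) F, N = U * M * U⁻¹ := by
  obtain ⟨P, hP⟩ := exists_conj_comp M h
  obtain ⟨Q, hQ⟩ := exists_conj_comp N (by rw [hMN]; exact h)
  rw [hMN] at hQ
  refine ⟨Q * P⁻¹, ?_⟩
  conv_lhs => rw [hQ]
  conv_rhs => rw [hP]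
  group

theorem mem_center_of_scalar {M : SpecialLinearGroup (Fin 2) F} (r : F)
    (h : (M : Matrix (Fin 2) (Fin 2) F) = Matrix.scalar (Fin 2) r) :
    M ∈ Subgroup.center (SpecialLinearGroup (Fin 2) F) := by
  rw [SpecialLinearGroup.mem_center_iff]
  refine ⟨r, ?_, h.symm⟩
  have h1 := M.det_coe
  rw [h] at h1
  simpa [pow_two] using h1

theorem mem_center_iff_entries {M : SpecialLinearGroup (Fin 2) F} :
    M ∈ Subgroup.center (SpecialLinearGroup (Fin 2) F) ↔
      (M : Matrix (Fin 2) (Fin 2) F) 0 1 = 0 ∧ (M : Matrix (Fin 2) (Fin 2) F) 1 0 = 0 ∧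
        (M : Matrix (Fin 2) (Fin 2) F) 0 0 = (M : Matrix (Fin 2) (Fin 2) F) 1 1 := by
  constructor
  · intro h
    obtain ⟨r, -, hr⟩ := SpecialLinearGroup.mem_center_iff.1 h
    rw [← hr]
    simp
  · rintro ⟨h1, h2, h3⟩
    refine mem_center_of_scalar ((M : Matrix (Fin 2) (Fin 2) F) 0 0) ?_
    ext i j
    fin_cases i <;> fin_cases j <;> simp [h1, h2, h3]

theorem trace_sq_of_mem_center {M : SpecialLinearGroup (Fin 2) F}
    (h : M ∈ Subgroup.center (SpecialLinearGroup (Fin 2) F)) :
    (M : Matrix (Fin 2) (Fin 2) F).trace ^ 2 = 4 := by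
  obtain ⟨h1, h2, h3⟩ := mem_center_iff_entries.1 h
  have hdet := det_coe M
  rw [h1, h2, h3] at hdet
  rw [trace_fin_two, h3]
  linear_combination 4 * hdet

/-- Cayley–Hamilton in `SL₂`. -/
theorem mul_self_eq (M : SpecialLinearGroup (Fin 2) F) :
    (M : Matrix (Fin 2) (Fin 2) F) * M =
      (M : Matrix (Fin 2) (Fin 2) F).trace • (M : Matrix (Fin 2) (Fin 2) F) - 1 := by
  have hdet := det_coe M
  ext i j
  fin_cases i <;> fin_cases j <;>
    simp [Matrix.mul_apply, Fin.sum_univ_two, trace_fin_two] <;>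
    first
      | ring1
      | linear_combination hdet
      | linear_combination (-1 : F) * hdet

theorem mem_center_of_sq_eq_one (h2 : (2 : F) ≠ 0) {M : SpecialLinearGroup (Fin 2) F}
    (h : M * M = 1) : M ∈ Subgroup.center (SpecialLinearGroup (Fin 2) F) := by
  have h' : (M : Matrix (Fin 2) (Fin 2) F) * M = 1 := by
    rw [← SpecialLinearGroup.coe_mul, h]; rfl
  have h3 : (M : Matrix (Fin 2) (Fin 2) F).trace • (M : Matrix (Fin 2) (Fin 2) F) =
      (2 : F) • (1 : Matrix (Fin 2) (Fin 2) F) := by
    rw [two_smul]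
    exact sub_eq_iff_eq_add.1 ((mul_self_eq M).symm.trans h')
  have ht : (M : Matrix (Fin 2) (Fin 2) F).trace ≠ 0 := by
    intro ht
    rw [ht, zero_smul] at h3
    have := congrFun (congrFun h3 0) 0
    simp at this
    exact h2 this.symm
  refine mem_center_of_scalar (((M : Matrix (Fin 2) (Fin 2) F).trace)⁻¹ * 2) ?_
  calc (M : Matrix (Fin 2) (Fin 2) F)
      = ((M : Matrix (Fin 2) (Fin 2) F).trace)⁻¹ •
          ((M : Matrix (Fin 2) (Fin 2) F).trace • (M : Matrix (Fin 2) (Fin 2) F)) :=
        (inv_smul_smul₀ ht _).symm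
    _ = _ := by
        rw [h3, smul_smul]
        ext i j
        fin_cases i <;> fin_cases j <;> simp

/-- The conic of norm one elements. -/
abbrev Conic (τ : F) : Type _ := {x : F × F // x.1 ^ 2 + τ * x.1 * x.2 + x.2 ^ 2 = 1}

theorem mem_centralizer_comp_iff (τ : F) (M : SpecialLinearGroup (Fin 2) F) :
    M ∈ Subgroup.centralizer ({comp τ} : Set (SpecialLinearGroup (Fin 2) F)) ↔
      (M : Matrix (Fin 2) (Fin 2) F) 0 1 = -(M : Matrix (Fin 2) (Fin 2) F) 1 0 ∧
      (M : Matrix (Fin 2) (Fin 2) F) 1 1 =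
        (M : Matrix (Fin 2) (Fin 2) F) 0 0 + τ * (M : Matrix (Fin 2) (Fin 2) F) 1 0 := by
  rw [Subgroup.mem_centralizer_singleton_iff, SpecialLinearGroup.ext_iff]
  simp only [SpecialLinearGroup.coe_mul, coe_comp]
  simp [Fin.forall_fin_two, Matrix.mul_apply, Fin.sum_univ_two]
  constructor
  · rintro ⟨⟨h00, h01⟩, h10, h11⟩
    exact ⟨h00, h10⟩
  · rintro ⟨h1, h2⟩
    refine ⟨⟨?_, ?_⟩, ?_, ?_⟩ <;> simp [h1, h2] <;> ring

/-- The centralizer of a companion matrix is parametrised by the conic. -/
def centralizerEquivConic (τ : F) :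
    Subgroup.centralizer ({comp τ} : Set (SpecialLinearGroup (Fin 2) F)) ≃ Conic τ where
  toFun M := ⟨((M.1 : Matrix (Fin 2) (Fin 2) F) 0 0, (M.1 : Matrix (Fin 2) (Fin 2) F) 1 0), by
    obtain ⟨h1, h2⟩ := (mem_centralizer_comp_iff τ M.1).1 M.2
    have hdet := det_coe M.1
    rw [h1, h2] at hdet
    linear_combination hdet⟩
  invFun x := ⟨mk2 x.1.1 (-x.1.2) x.1.2 (x.1.1 + τ * x.1.2) (by linear_combination x.2), by
      rw [mem_centralizer_comp_iff]; simp [coe_mk2]⟩
  left_inv M := by
    obtain ⟨h1, h2⟩ := (mem_centralizer_comp_iff τ M.1).1 M.2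
    apply Subtype.ext; apply Subtype.ext
    ext i j
    fin_cases i <;> fin_cases j <;> simp [h1, h2, coe_mk2]
  right_inv x := by ext <;> rfl

theorem card_conic_add [Fintype F] [DecidableEq F] (τ : F) (h : τ ^ 2 ≠ 4) :
    Nat.card (Conic τ) + ({m : F | 1 + τ * m + m ^ 2 = 0} : Finset F).card = Fintype.card F + 1 := by
  classical
  have key : ∀ (a b : F), a ^ 2 + τ * a * b + b ^ 2 = 1 → a = 1 → b = 0 ∨ b = -τ := by
    rintro a b hab rfl
    have : b * (b + τ) = 0 := by linear_combination hab
    rcases mul_eq_zero.1 this with h0 | h0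
    · exact Or.inl h0
    · exact Or.inr (eq_neg_of_add_eq_zero_left h0)
  let pt : {m : F // 1 + τ * m + m ^ 2 ≠ 0} → Conic τ := fun m =>
    ⟨(1 + (-(2 + τ * m.1) / (1 + τ * m.1 + m.1 ^ 2)),
      (-(2 + τ * m.1) / (1 + τ * m.1 + m.1 ^ 2)) * m.1), by
      have hs : (-(2 + τ * m.1) / (1 + τ * m.1 + m.1 ^ 2)) * (1 + τ * m.1 + m.1 ^ 2) =
          -(2 + τ * m.1) := div_mul_cancel₀ _ m.2
      linear_combination (-(2 + τ * m.1) / (1 + τ * m.1 + m.1 ^ 2)) * hs⟩
  let f : Option {m : F // 1 + τ * m + m ^ 2 ≠ 0} → Conic τ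
    | none => ⟨(1, -τ), by ring⟩
    | some m => pt m
  have hbij : Function.Bijective f := by
    constructor
    · have hne : ∀ m : {m : F // 1 + τ * m + m ^ 2 ≠ 0}, (f (some m)).1 ≠ (f none).1 := by
        intro m hm
        simp only [f, pt, Prod.mk.injEq] at hm
        obtain ⟨hm1, hm2⟩ := hm
        have hs0 : -(2 + τ * m.1) / (1 + τ * m.1 + m.1 ^ 2) = 0 := by linear_combination hm1
        rw [hs0, zero_mul] at hm2
        have hτ : τ = 0 := by linear_combination hm2
        rw [div_eq_zero_iff] at hs0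
        rcases hs0 with hs0 | hs0
        · subst hτ
          have h20 : (2 : F) = 0 := by linear_combination -hs0
          exact h (by linear_combination (-2 : F) * h20)
        · exact m.2 hs0
      intro x y hxy
      rcases x with _ | m <;> rcases y with _ | m'
      · rfl
      · exact absurd (congrArg Subtype.val hxy).symm (hne m')
      · exact absurd (congrArg Subtype.val hxy) (hne m)
      · have := congrArg Subtype.val hxy
        simp only [f, pt, Prod.mk.injEq] at this
        obtain ⟨h1, h2⟩ := this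
        have h1' := add_left_cancel h1
        by_cases hs : -(2 + τ * m.1) / (1 + τ * m.1 + m.1 ^ 2) = 0
        · rw [hs, eq_comm] at h1'
          have e : 2 + τ * m.1 = 0 := by
            rcases div_eq_zero_iff.1 hs with h0 | h0
            · exact neg_eq_zero.1 h0
            · exact absurd h0 m.2
          have e' : 2 + τ * m'.1 = 0 := by
            rcases div_eq_zero_iff.1 h1' with h0 | h0
            · exact neg_eq_zero.1 h0
            · exact absurd h0 m'.2
          have hτ : τ ≠ 0 := by
            rintro rfl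
            exact h (by linear_combination (-2 : F) * e)
          congr 1; apply Subtype.ext
          exact mul_left_cancel₀ hτ (by linear_combination e - e')
        · rw [← h1'] at h2
          congr 1; apply Subtype.ext
          exact mul_left_cancel₀ hs h2
    · rintro ⟨⟨a, b⟩, hab⟩
      by_cases ha : a = 1
      · rcases key a b hab ha with hb | hb
        · by_cases hτ : τ = 0
          · refine ⟨none, ?_⟩
            simp [f, ha, hb, hτ]
          · have hm : 1 + τ * (-2 / τ) + (-2 / τ) ^ 2 ≠ 0 := by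
              intro h0
              apply h
              field_simp at h0
              linear_combination -h0
            refine ⟨some ⟨-2 / τ, hm⟩, ?_⟩
            have e0 : -(2 + τ * (-2 / τ)) / (1 + τ * (-2 / τ) + (-2 / τ) ^ 2) = 0 := by
              have : (2 : F) + τ * (-2 / τ) = 0 := by field_simp; ring
              rw [this, neg_zero, zero_div]
            apply Subtype.ext
            show (_, _) = (a, b)
            rw [e0, zero_mul, add_zero, ha, hb]
        · exact ⟨none, by simp [f, ha, hb]⟩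
      · have ha' : a - 1 ≠ 0 := sub_ne_zero.2 ha
        have hbm : b / (a - 1) * (a - 1) = b := div_mul_cancel₀ b ha'
        have hQ : (a - 1) ^ 2 * (1 + τ * (b / (a - 1)) + (b / (a - 1)) ^ 2) =
            -(a - 1) * (2 + τ * (b / (a - 1))) := by
          linear_combination hab + (τ * (a - 1) + τ + b + b / (a - 1) * (a - 1)) * hbm
        have hm : 1 + τ * (b / (a - 1)) + (b / (a - 1)) ^ 2 ≠ 0 := by
          intro h0
          rw [h0, mul_zero] at hQ
          have h2 : 2 + τ * (b / (a - 1)) = 0 :=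
            (mul_eq_zero.1 hQ.symm).resolve_left (neg_ne_zero.2 ha')
          apply h
          linear_combination
            (τ * (b / (a - 1)) - 2 + τ ^ 2) * h2 + (-(τ ^ 2)) * h0
        refine ⟨some ⟨b / (a - 1), hm⟩, ?_⟩
        have hs : -(2 + τ * (b / (a - 1))) / (1 + τ * (b / (a - 1)) + (b / (a - 1)) ^ 2) =
            a - 1 := by
          rw [div_eq_iff hm]
          apply mul_left_cancel₀ ha'
          linear_combination -hQ
        apply Subtype.ext
        show (_, _) = (a, b)
        rw [hs, mul_comm (a - 1), hbm, add_sub_cancel]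
  rw [← Nat.card_eq_of_bijective f hbij, Nat.card_eq_fintype_card, Fintype.card_option,
    Fintype.card_subtype_compl, Fintype.card_subtype]
  have := Finset.card_le_univ ({m : F | 1 + τ * m + m ^ 2 = 0} : Finset F)
  omega

theorem card_centralizer_comp [Fintype F] (τ : F) (h : τ ^ 2 ≠ 4) :
    ((∃ u : F, u ^ 2 - τ * u + 1 = 0) →
      Nat.card (Subgroup.centralizer ({comp τ} : Set (SpecialLinearGroup (Fin 2) F))) =
        Fintype.card F - 1) ∧
    ((¬ ∃ u : F, u ^ 2 - τ * u + 1 = 0) →
      Nat.card (Subgroup.centralizer ({comp τ} : Set (SpecialLinearGroup (Fin 2) F))) =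
        Fintype.card F + 1) := by
  classical
  have hc := card_conic_add τ h
  rw [Nat.card_congr (centralizerEquivConic τ)]
  constructor
  · rintro ⟨u, hu⟩
    have : ({m : F | 1 + τ * m + m ^ 2 = 0} : Finset F) = {-u, u - τ} := by
      ext m
      simp only [Finset.mem_filter, Finset.mem_univ, true_and, Finset.mem_insert,
        Finset.mem_singleton]
      constructor
      · intro hm
        have h0 : (m + u) * (m - (u - τ)) = 0 := by linear_combination hm - hu
        rcases mul_eq_zero.1 h0 with h1 | h1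
        · exact Or.inl (eq_neg_of_add_eq_zero_left h1)
        · exact Or.inr (sub_eq_zero.1 h1)
      · rintro (rfl | rfl) <;> linear_combination hu
    have hne : -u ≠ u - τ := fun e => h (by
      linear_combination (-(4 : F)) * hu + (-(2 * u) + τ) * e)
    rw [this, Finset.card_pair hne] at hc
    omega
  · intro hno
    have : ({m : F | 1 + τ * m + m ^ 2 = 0} : Finset F) = ∅ := by
      rw [Finset.filter_eq_empty_iff]
      intro m _ hm
      exact hno ⟨-m, by linear_combination hm⟩
    rw [this, Finset.card_empty] at hc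
    omega

theorem isCyclic_centralizer_comp [Fintype F] (τ : F) (h : τ ^ 2 ≠ 4) :
    IsCyclic (Subgroup.centralizer ({comp τ} : Set (SpecialLinearGroup (Fin 2) F))) := by
  obtain ⟨θ, hθ⟩ := IsAlgClosed.exists_root
    ((X : (AlgebraicClosure F)[X]) ^ 2 - C (algebraMap F (AlgebraicClosure F) τ) * X + 1)
    (by
      have : ((X : (AlgebraicClosure F)[X]) ^ 2 -
          C (algebraMap F (AlgebraicClosure F) τ) * X + 1).degree = 2 := by compute_degree!
      rw [this]; decide)
  simp only [IsRoot.def, eval_add, eval_sub, eval_pow, eval_X, eval_mul, eval_C, eval_one] at hθ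
  set t := algebraMap F (AlgebraicClosure F) τ with ht
  let ι := algebraMap F (AlgebraicClosure F)
  let φ : Subgroup.centralizer ({comp τ} : Set (SpecialLinearGroup (Fin 2) F)) →*
      AlgebraicClosure F :=
    { toFun := fun M => ι ((M.1 : Matrix (Fin 2) (Fin 2) F) 0 0) +
          ι ((M.1 : Matrix (Fin 2) (Fin 2) F) 1 0) * θ
      map_one' := by simp
      map_mul' := fun M N => by
        obtain ⟨h1, h2⟩ := (mem_centralizer_comp_iff τ M.1).1 M.2
        simp only [Subgroup.coe_mul, SpecialLinearGroup.coe_mul, Matrix.mul_apply,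
          Fin.sum_univ_two, h1, h2, map_add, map_mul, map_neg]
        linear_combination (-(ι ((M.1 : Matrix (Fin 2) (Fin 2) F) 1 0)) *
          ι ((N.1 : Matrix (Fin 2) (Fin 2) F) 1 0)) * hθ }
  refine isCyclic_of_injective_ringHom φ ((injective_iff_map_eq_one φ).2 fun M hM => ?_)
  obtain ⟨h1, h2⟩ := (mem_centralizer_comp_iff τ M.1).1 M.2
  have hdet := det_coe M.1
  rw [h1, h2] at hdet
  set a := (M.1 : Matrix (Fin 2) (Fin 2) F) 0 0 with ha
  set b := (M.1 : Matrix (Fin 2) (Fin 2) F) 1 0 with hb
  have hM' : ι a + ι b * θ = 1 := hM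
  have hN : ι a * ι a + t * ι a * ι b + ι b * ι b = 1 := by
    have := congrArg ι hdet
    simp only [map_sub, map_mul, map_add, map_neg, map_one] at this
    linear_combination this
  have hother : ι a + ι b * (t - θ) = 1 := by
    linear_combination hN - (ι a + ι b * (t - θ)) * hM' + (-(ι b * ι b)) * hθ
  have hb0 : ι b * (2 * θ - t) = 0 := by linear_combination hM' - hother
  rcases mul_eq_zero.1 hb0 with h0 | h0
  · have hb' : b = 0 := (map_eq_zero_iff ι ι.injective).1 h0
    have ha' : a = 1 := by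
      rw [h0, zero_mul, add_zero, ← map_one ι] at hM'
      exact ι.injective hM'
    apply Subtype.ext; apply Subtype.ext
    ext i j
    fin_cases i <;> fin_cases j <;> simp [h1, h2, hb', ha', ← ha, ← hb]
  · exfalso
    apply h
    apply ι.injective
    rw [map_pow, map_ofNat]
    linear_combination (-4 : AlgebraicClosure F) * hθ + (2 * θ - t) * h0

/-- Centralizers of regular semisimple elements. -/
theorem centralizer_card_cyclic [Fintype F] (M : SpecialLinearGroup (Fin 2) F)
    (h : (M : Matrix (Fin 2) (Fin 2) F).trace ^ 2 ≠ 4) :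
    IsCyclic (Subgroup.centralizer ({M} : Set (SpecialLinearGroup (Fin 2) F))) ∧
    ((∃ u : F, u ^ 2 - (M : Matrix (Fin 2) (Fin 2) F).trace * u + 1 = 0) →
      Nat.card (Subgroup.centralizer ({M} : Set (SpecialLinearGroup (Fin 2) F))) =
        Fintype.card F - 1) ∧
    ((¬ ∃ u : F, u ^ 2 - (M : Matrix (Fin 2) (Fin 2) F).trace * u + 1 = 0) →
      Nat.card (Subgroup.centralizer ({M} : Set (SpecialLinearGroup (Fin 2) F))) =
        Fintype.card F + 1) := by
  obtain ⟨P, hP⟩ := exists_conj_comp M h
  have hmap : Subgroup.centralizer ({M} : Set (SpecialLinearGroup (Fin 2) F)) =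
      (Subgroup.centralizer ({comp (M : Matrix (Fin 2) (Fin 2) F).trace} :
        Set (SpecialLinearGroup (Fin 2) F))).map (MulAut.conj P).toMonoidHom := by
    ext g
    rw [Subgroup.mem_centralizer_singleton_iff, Subgroup.mem_map]
    constructor
    · intro hg
      refine ⟨P⁻¹ * g * P, ?_, by simp [mul_assoc]⟩
      rw [Subgroup.mem_centralizer_singleton_iff]
      rw [hP] at hg
      set C := comp (M : Matrix (Fin 2) (Fin 2) F).trace with hC
      calc _ = P⁻¹ * (g * (P * C * P⁻¹)) * P := by group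
        _ = P⁻¹ * ((P * C * P⁻¹) * g) * P := by rw [hg]
        _ = _ := by group
    · rintro ⟨g, hg, rfl⟩
      rw [Subgroup.mem_centralizer_singleton_iff] at hg
      rw [hP]
      simp only [MulEquiv.coe_toMonoidHom, MulAut.conj_apply]
      set C := comp (M : Matrix (Fin 2) (Fin 2) F).trace with hC
      calc _ = P * (g * C) * P⁻¹ := by group
        _ = P * (C * g) * P⁻¹ := by rw [hg]
        _ = _ := by group
  let e := Subgroup.equivMapOfInjective
    (Subgroup.centralizer ({comp (M : Matrix (Fin 2) (Fin 2) F).trace} :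
        Set (SpecialLinearGroup (Fin 2) F))) (MulAut.conj P).toMonoidHom (MulAut.conj P).injective
  have hc := card_centralizer_comp _ h
  rw [hmap, ← Nat.card_congr e.toEquiv]
  have := isCyclic_centralizer_comp _ h
  exact ⟨isCyclic_of_surjective e.toMonoidHom e.surjective, hc.1, hc.2⟩

theorem pow_eq_one_of_regular [Fintype F] (M : SpecialLinearGroup (Fin 2) F)
    (h : (M : Matrix (Fin 2) (Fin 2) F).trace ^ 2 ≠ 4) :
    ((∃ u : F, u ^ 2 - (M : Matrix (Fin 2) (Fin 2) F).trace * u + 1 = 0) →
      M ^ (Fintype.card F - 1) = 1) ∧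
    ((¬ ∃ u : F, u ^ 2 - (M : Matrix (Fin 2) (Fin 2) F).trace * u + 1 = 0) →
      M ^ (Fintype.card F + 1) = 1) := by
  obtain ⟨-, h1, h2⟩ := centralizer_card_cyclic M h
  have hM : M ∈ Subgroup.centralizer ({M} : Set (SpecialLinearGroup (Fin 2) F)) :=
    Subgroup.mem_centralizer_singleton_iff.2 rfl
  have := congrArg Subtype.val (pow_card_eq_one'
    (x := (⟨M, hM⟩ : Subgroup.centralizer ({M} : Set (SpecialLinearGroup (Fin 2) F)))))
  exact ⟨fun hu => h1 hu ▸ this, fun hu => h2 hu ▸ this⟩

/-- Elements with trace `±2` have `p`-th power central. -/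
theorem pow_char_mem_center [Finite F] (p : ℕ) [Fact p.Prime] [CharP F p]
    (M : SpecialLinearGroup (Fin 2) F)
    (h : (M : Matrix (Fin 2) (Fin 2) F).trace ^ 2 = 4) :
    M ^ p ∈ Subgroup.center (SpecialLinearGroup (Fin 2) F) := by
  obtain ⟨e, he, he2⟩ : ∃ e : F, e + e = (M : Matrix (Fin 2) (Fin 2) F).trace ∧ e ^ 2 = 1 := by
    by_cases h2 : (2 : F) = 0
    · refine ⟨1, ?_, one_pow 2⟩
      have : (M : Matrix (Fin 2) (Fin 2) F).trace ^ 2 = 0 := by
        rw [h]; linear_combination 2 * h2
      rw [(pow_eq_zero_iff two_ne_zero).1 this]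
      linear_combination h2
    · refine ⟨(M : Matrix (Fin 2) (Fin 2) F).trace / 2, by field_simp; ring, ?_⟩
      field_simp
      linear_combination h
  have hN : ((M : Matrix (Fin 2) (Fin 2) F) - Matrix.scalar (Fin 2) e) ^ 2 = 0 := by
    have hdet := det_coe M
    rw [trace_fin_two] at he
    ext i j
    rw [pow_two]
    fin_cases i <;> fin_cases j <;>
      simp [Matrix.mul_apply, Fin.sum_univ_two] <;>
      first
        | linear_combination
            (-((M : Matrix (Fin 2) (Fin 2) F) 0 0)) * he + he2 - hdet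
        | linear_combination
            (-((M : Matrix (Fin 2) (Fin 2) F) 1 1)) * he + he2 - hdet
        | linear_combination (-((M : Matrix (Fin 2) (Fin 2) F) 0 1)) * he
        | linear_combination (-((M : Matrix (Fin 2) (Fin 2) F) 1 0)) * he
  have hN' : ((M : Matrix (Fin 2) (Fin 2) F) - Matrix.scalar (Fin 2) e) ^ p = 0 := by
    obtain ⟨k, hk⟩ := Nat.exists_eq_add_of_le (Fact.out : p.Prime).two_le
    rw [hk, pow_add, hN, zero_mul]
  have : CharP (Matrix (Fin 2) (Fin 2) F) p :=
    charP_of_injective_ringHom (f := Matrix.scalar (Fin 2))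
      (fun a b hab => by simpa using congrFun (congrFun hab 0) 0) p
  rw [sub_pow_char_of_commute _ (Matrix.scalar_commute e (Commute.all e) _).symm, sub_eq_zero,
    ← map_pow] at hN'
  exact mem_center_of_scalar (e ^ p) (by rw [SpecialLinearGroup.coe_pow]; exact hN')

end CfsgLib.SL2Trace
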